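import Groth.Agent.QC.Closure
import Groth.Agent.QC.Localisation
import Mathlib.Algebra.Homology.ShortComplex.Exact

/-!
Direct images along affine morphisms preserve epimorphisms and cokernels of quasi-coherent modules.
-/

set_option autoImplicit false
set_option linter.style.haveILetI false
set_option backward.isDefEq.respectTransparency false

universe u

open CategoryTheory CategoryTheory.Limits AlgebraicGeometry TopologicalSpace Opposite
open Groth.Agent.QC (res app_res section_eq_of_locally)

namespace Groth.Agent.FrobSplitEtale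

variable {X Y : Scheme.{u}} (f : Y ⟶ X) [IsAffineHom f] {M N : Y.Modules}

theorem epi_push (hM : Coh.IsQCoh M) (hN : Coh.IsQCoh N) (φ : M ⟶ N) [Epi φ] :
    Epi ((Scheme.Modules.pushforward f).map φ) := by
  refine ⟨fun {Z} g h e => Scheme.Modules.hom_ext _ _ fun U => ?_⟩
  ext (t : Γ(N, f ⁻¹ᵁ U))
  refine section_eq_of_locally fun x hx => ?_
  obtain ⟨V, hV, hxV, hVU⟩ := exists_isAffineOpen_mem_and_subset (show x ∈ U from hx)
  refine ⟨V, hVU, hxV, ?_⟩
  rw [app_res, app_res]
  obtain ⟨s, hs⟩ := QC.app_surjective_of_epi (hV.preimage f) hM hN φ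
    (res ((Scheme.Modules.pushforward f).obj N) hVU t)
  have e' : ((Scheme.Modules.pushforward f).map φ ≫ g).app V s =
      ((Scheme.Modules.pushforward f).map φ ≫ h).app V s := by rw [e]
  change g.app V (φ.app (f ⁻¹ᵁ V) s) = h.app V (φ.app (f ⁻¹ᵁ V) s) at e'
  rwa [hs] at e'

variable {C : Y.Modules} {u : M ⟶ N} {π : N ⟶ C} (w : u ≫ π = 0)

/-- The direct image of a cokernel of quasi-coherent modules is a cokernel. -/
theorem exact_push (hM : Coh.IsQCoh M) (hN : Coh.IsQCoh N) (hC : Coh.IsQCoh C)
    (h : (ShortComplex.mk u π w).Exact) :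
    (ShortComplex.mk ((Scheme.Modules.pushforward f).map u) ((Scheme.Modules.pushforward f).map π)
      (by rw [← Functor.map_comp, w, Functor.map_zero])).Exact := by
  rw [ShortComplex.exact_iff_epi_kernel_lift]
  dsimp only
  haveI : Epi (kernel.lift π u w) := (ShortComplex.exact_iff_epi_kernel_lift _).1 h
  haveI := epi_push f hM (QC.isQCoh_kernel hN hC π) (kernel.lift π u w)
  haveI : PreservesLimitsOfSize.{0, 0} (Scheme.Modules.pushforward f) :=
    (Scheme.Modules.pullbackPushforwardAdjunction f).rightAdjoint_preservesLimits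
  exact (map_lift_kernelComparison π (Scheme.Modules.pushforward f) w) ▸ epi_comp _ _

end Groth.Agent.FrobSplitEtale
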