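import Mathlib.RingTheory.Trace.Basic
import Mathlib.LinearAlgebra.Matrix.Charpoly.FiniteField

/-!
In characteristic `p` the trace of a finite free algebra commutes with the `p`-th power.
-/

set_option autoImplicit false
set_option linter.style.haveILetI false

open Polynomial Matrix

namespace Groth.Agent.FrobSplitEtale

variable {R : Type*} [CommRing R] {p : ℕ} [Fact p.Prime] [CharP R p]
variable {n : Type*} [DecidableEq n] [Fintype n]

theorem charpoly_pow_char [Nonempty n] (M : Matrix n n R) :
    (M ^ p).charpoly = M.charpoly.map (frobenius R p) := by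
  have hp : p.Prime := Fact.out
  refine expand_injective hp.pos ?_
  rw [← map_expand, map_frobenius_expand]
  unfold charpoly
  rw [AlgHom.map_det, ← coe_detMonoidHom, ← (detMonoidHom : Matrix n n R[X] →* R[X]).map_pow]
  apply congr_arg det
  refine matPolyEquiv.injective ?_
  rw [map_pow, matPolyEquiv_charmatrix, sub_pow_char_of_commute _ (C M).commute_X, ← C_pow]
  exact (id (matPolyEquiv_eq_X_pow_sub_C p M) :)

theorem trace_pow_char (M : Matrix n n R) : Matrix.trace (M ^ p) = Matrix.trace M ^ p := by
  have hp : p.Prime := Fact.out
  cases isEmpty_or_nonempty n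
  · simp [Matrix.trace, zero_pow hp.ne_zero]
  rcases subsingleton_or_nontrivial R with hR | hR
  · exact Subsingleton.elim _ _
  rw [Matrix.trace_eq_neg_charpoly_coeff, Matrix.trace_eq_neg_charpoly_coeff, charpoly_pow_char,
    Polynomial.coeff_map, ← frobenius_def, map_neg]

theorem algebra_trace_pow_char {A : Type*} [CommRing A] [Algebra R A] {ι : Type*} [Finite ι]
    (b : Module.Basis ι R A) (a : A) :
    Algebra.trace R A (a ^ p) = Algebra.trace R A a ^ p := by
  classical
  haveI := Fintype.ofFinite ι
  rw [Algebra.trace_eq_matrix_trace b, Algebra.trace_eq_matrix_trace b, map_pow, trace_pow_char]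

end Groth.Agent.FrobSplitEtale
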