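import Groth.Prelude.Def_Frob
import Groth.Prelude.Def_ClSub2
import Groth.Agent.FinCovTr.Trace
import Groth.Agent.CurveRR.Zero
import Groth.Agent.CohQC.Push
import Groth.Agent.FrobSplitEtale.Trace
import Groth.Agent.FrobSplitEtale.Exact

/-!
For a double cover `f : Y ⟶ X` in odd characteristic `p`, the cokernel of `O_X ⟶ F_* O_X` is a direct
summand of the direct image of that of `Y`.
-/

set_option autoImplicit false
set_option backward.isDefEq.respectTransparency false
set_option backward.isDefEq.respectTransparency.types false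
set_option linter.style.haveILetI false
set_option maxHeartbeats 1000000

universe u

open CategoryTheory CategoryTheory.Limits AlgebraicGeometry TopologicalSpace Opposite
open Groth.Agent.QC (res resO app_res section_eq_of_locally resO_resO res_self)

noncomputable section

namespace Groth.Agent.FrobSplitEtale

variable {X Y : Scheme.{u}}

/-- A section of the structure module is a function. -/
abbrev fn {U : X.Opens} (s : Γ(Coh.structureModule X, U)) : Γ(X, U) := s

theorem isAffineHom_frob (X : Scheme.{u}) (p : ℕ) [Fact p.Prime] [FrobSch.IsCharP X p] :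
    IsAffineHom (FrobSch.frob X p) := by
  refine isAffineHom_of_isInducing _ ?_ ?_
  · rw [FrobSch.frob_base]; exact Topology.IsInducing.id
  · have : Set.range (FrobSch.frob X p) = Set.univ := by
      ext x; exact ⟨fun _ => trivial, fun _ => ⟨x, rfl⟩⟩
    rw [this]; exact isClosed_univ

variable (f : Y ⟶ X)

/-- The direct image of the structure sheaf is the module of the direct image algebra. -/
def toAlg [QuasiCompact f] [QuasiSeparated f] :
    (Scheme.Modules.pushforward f).obj (Coh.structureModule Y) ⟶ (RelSpec.QCAlg.directImage f).toModule :=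
  ⟨PresheafOfModules.homMk
    { app := fun U => AddCommGrpCat.ofHom
        (AddMonoidHom.mk' (fun s : Γ(Y, f ⁻¹ᵁ U.unop) => s) (fun _ _ => rfl))
      naturality := fun U V i => by ext s; rfl }
    (fun U r s => rfl)⟩

/-- The inverse map. -/
def ofAlg [QuasiCompact f] [QuasiSeparated f] :
    (RelSpec.QCAlg.directImage f).toModule ⟶ (Scheme.Modules.pushforward f).obj (Coh.structureModule Y) :=
  ⟨PresheafOfModules.homMk
    { app := fun U => AddCommGrpCat.ofHom
        (AddMonoidHom.mk' (fun s : Γ(Y, f ⁻¹ᵁ U.unop) => s) (fun _ _ => rfl))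
      naturality := fun U V i => by ext s; rfl }
    (fun U r s => rfl)⟩

variable (p : ℕ) [Fact p.Prime] [FrobSch.IsCharP X p] [FrobSch.IsCharP Y p]

omit [FrobSch.IsCharP Y p] in
/-- The trace of a double cover, divided by two. -/
theorem exists_half_trace [IsFinite f] (hp : p ≠ 2)
    (h2 : FlatMod.IsFinLocFreeOfRank 2 ((Scheme.Modules.pushforward f).obj (Coh.structureModule Y))) :
    ∃ T : (Scheme.Modules.pushforward f).obj (Coh.structureModule Y) ⟶ Coh.structureModule X,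
      ClSub.unitToPush f ≫ T = 𝟙 _ ∧
      ∀ (U : X.Opens) (s : Γ(Y, f ⁻¹ᵁ U)), fn (T.app U (s ^ p)) = fn (T.app U s) ^ p := by
  let A := RelSpec.QCAlg.directImage f
  let e : (Scheme.Modules.pushforward f).obj (Coh.structureModule Y) ≅ A.toModule := ⟨toAlg f, ofAlg f, rfl, rfl⟩
  have h2' : FlatMod.IsFinLocFreeOfRank 2 A.toModule := fun x =>
    let ⟨U, hx, ⟨i⟩⟩ := h2 x
    ⟨U, hx, ⟨(Scheme.Modules.restrictFunctor U.ι).mapIso e.symm ≪≫ i⟩⟩
  have hA : FlatMod.IsFinLocFree A.toModule := fun x => let ⟨U, h⟩ := h2' x; ⟨U, 2, h⟩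
  obtain ⟨τ, hτ⟩ := FinCovTr.exists_trace hA
  obtain ⟨c, hc⟩ : ∃ c : ℕ, 2 * c = p + 1 := by
    rcases (Fact.out : p.Prime).eq_two_or_odd with h | h
    · exact absurd h hp
    · exact ⟨(p + 1) / 2, by omega⟩
  have hcast : ∀ (U : X.Opens), (c : Γ(X, U)) ^ p = c := fun U => by
    have h := map_natCast (FrobSch.powHom p Γ(X, U) (FrobSch.natCast_eq_zero_app X p U)) c
    exact h
  have happ : ∀ (U : X.Opens) (s : Γ(Y, f ⁻¹ᵁ U)),
      fn ((c • (e.hom ≫ τ)).app U s) = (c : Γ(X, U)) * fn (τ.app U s) := fun U s => by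
    let L : ((Scheme.Modules.pushforward f).obj (Coh.structureModule Y) ⟶ Coh.structureModule X) →+ Γ(X, U) :=
      AddMonoidHom.mk' (fun φ => fn (φ.app U s)) fun φ ψ => rfl
    change L (c • (e.hom ≫ τ)) = _
    rw [map_nsmul, nsmul_eq_mul]
    rfl
  have hloc : ∀ x : X, ∃ (W : X.Opens) (n : Fin 2 → Γ(A.toModule, W)), x ∈ W ∧ TMul.IsFrame n :=
    fun x => CurveRR.exists_frame h2' x
  refine ⟨c • (e.hom ≫ τ), Scheme.Modules.hom_ext _ _ fun U => ?_, fun U s => ?_⟩
  · ext (r : Γ(X, U))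
    refine section_eq_of_locally fun x hx => ?_
    obtain ⟨W, b, hxW, hb⟩ := hloc x
    refine ⟨U ⊓ W, inf_le_left, ⟨hx, hxW⟩, ?_⟩
    rw [app_res, app_res]
    generalize res (Coh.structureModule X) (inf_le_left : U ⊓ W ≤ U) r = r'
    change (c • (e.hom ≫ τ)).app (U ⊓ W) ((f.app (U ⊓ W)).hom r') = r'
    refine (happ _ _).trans ?_
    have h1 : τ.app (U ⊓ W) ((f.app (U ⊓ W)).hom r') =
        FinCovTr.tr A (U ⊓ W) ((f.app (U ⊓ W)).hom r') := hτ W (U ⊓ W) ⟨2, b, hb⟩ inf_le_right _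
    rw [h1]
    letI : Algebra Γ(X, U ⊓ W) (FinCovTr.Sec A (U ⊓ W)) := FinCovTr.secAlg A (U ⊓ W)
    have h3 : FinCovTr.tr A (U ⊓ W) ((f.app (U ⊓ W)).hom r') = (2 : ℕ) • (r' : Γ(X, U ⊓ W)) := by
      refine (Algebra.trace_algebraMap_of_basis (FinCovTr.basisOf hb inf_le_right) _).trans ?_
      rw [Fintype.card_fin]
    rw [h3, ← nsmul_eq_mul, ← mul_nsmul', mul_comm c 2, hc, add_nsmul, one_nsmul, nsmul_eq_mul,
      FrobSch.natCast_eq_zero_app, zero_mul, zero_add]
  · rw [happ, happ, mul_pow, hcast]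
    congr 1
    refine section_eq_of_locally (M := Coh.structureModule X) fun x hx => ?_
    obtain ⟨W, b, hxW, hb⟩ := hloc x
    refine ⟨U ⊓ W, inf_le_left, ⟨hx, hxW⟩, ?_⟩
    let z : FinCovTr.Sec A (U ⊓ W) := FinCovTr.resA A inf_le_left (s : FinCovTr.Sec A U)
    have e1 : resO X inf_le_left (fn (τ.app U (s ^ p))) = FinCovTr.tr A (U ⊓ W) (z ^ p) :=
      ((app_res τ (inf_le_left : U ⊓ W ≤ U) (s ^ p)).trans (hτ W (U ⊓ W) ⟨2, b, hb⟩ inf_le_right _)).trans
        (congrArg (FinCovTr.tr A (U ⊓ W)) (map_pow (FinCovTr.resA A inf_le_left) (s : FinCovTr.Sec A U) p))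
    have e2 : resO X inf_le_left (fn (τ.app U s)) = FinCovTr.tr A (U ⊓ W) z :=
      (app_res τ (inf_le_left : U ⊓ W ≤ U) s).trans (hτ W (U ⊓ W) ⟨2, b, hb⟩ inf_le_right _)
    suffices h : FinCovTr.tr A (U ⊓ W) (z ^ p) = FinCovTr.tr A (U ⊓ W) z ^ p by
      exact e1.trans (h.trans ((congrArg (· ^ p) e2.symm).trans (map_pow (resO X inf_le_left) _ p).symm))
    letI : Algebra Γ(X, U ⊓ W) (FinCovTr.Sec A (U ⊓ W)) := FinCovTr.secAlg A (U ⊓ W)
    haveI : CharP Γ(X, U ⊓ W) p := by
      haveI : Nonempty (↥(U ⊓ W) : Type _) := ⟨⟨x, hx, hxW⟩⟩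
      exact (CharP.charP_iff_prime_eq_zero Fact.out).2 (FrobSch.natCast_eq_zero_app X p _)
    exact algebra_trace_pow_char (FinCovTr.basisOf hb inf_le_right) z

/-- `f_* F_{Y*} ≅ F_{X*} f_*` on the structure sheaf. -/
def swap : (Scheme.Modules.pushforward f).obj
      ((Scheme.Modules.pushforward (FrobSch.frob Y p)).obj (Coh.structureModule Y)) ≅
    (Scheme.Modules.pushforward (FrobSch.frob X p)).obj
      ((Scheme.Modules.pushforward f).obj (Coh.structureModule Y)) :=
  (Scheme.Modules.pushforwardComp (FrobSch.frob Y p) f).app _ ≪≫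
    (Scheme.Modules.pushforwardCongr (FrobSch.frob_comp p f)).app _ ≪≫
    ((Scheme.Modules.pushforwardComp f (FrobSch.frob X p)).app _).symm

theorem swap_hom_app (U : X.Opens) (s : Γ(Y, f ⁻¹ᵁ U)) :
    ((swap f p).hom.app U s : Γ(Y, f ⁻¹ᵁ U)) = s := by
  change Y.presheaf.map (𝟙 (op (f ⁻¹ᵁ U))) s = s
  rw [Y.presheaf.map_id]
  rfl

/-- The cokernel of `O ⟶ F_* O`. -/
abbrev bOne (X : Scheme.{u}) (p : ℕ) [Fact p.Prime] [FrobSch.IsCharP X p] : X.Modules :=
  cokernel (ClSub.unitToPush (FrobSch.frob X p))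

theorem isQCoh_push_frob (X : Scheme.{u}) (p : ℕ) [Fact p.Prime] [FrobSch.IsCharP X p] :
    Coh.IsQCoh ((Scheme.Modules.pushforward (FrobSch.frob X p)).obj (Coh.structureModule X)) := by
  haveI := isAffineHom_frob X p
  haveI := QC.isQCoh_unit X
  exact QC.isQCoh_pushforward (FrobSch.frob X p)

theorem isQCoh_bOne (X : Scheme.{u}) (p : ℕ) [Fact p.Prime] [FrobSch.IsCharP X p] :
    Coh.IsQCoh (bOne X p) :=
  QC.isQCoh_cokernel (QC.isQCoh_unit X) (isQCoh_push_frob X p) _

/-- `B_X` is a retract of `f_* B_Y`. -/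
theorem exists_retract [IsFinite f] (hp : p ≠ 2)
    (h2 : FlatMod.IsFinLocFreeOfRank 2 ((Scheme.Modules.pushforward f).obj (Coh.structureModule Y))) :
    ∃ (i : bOne X p ⟶ (Scheme.Modules.pushforward f).obj (bOne Y p))
      (r : (Scheme.Modules.pushforward f).obj (bOne Y p) ⟶ bOne X p), i ≫ r = 𝟙 _ := by
  obtain ⟨T, hT, hTp⟩ := exists_half_trace f p hp h2
  let a := ClSub.unitToPush f
  let uX := ClSub.unitToPush (FrobSch.frob X p)
  let uY := ClSub.unitToPush (FrobSch.frob Y p)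
  let F := Scheme.Modules.pushforward (FrobSch.frob X p)
  let P := Scheme.Modules.pushforward f
  let w := swap f p
  have sq1 : a ≫ P.map uY ≫ w.hom = uX ≫ F.map a := Scheme.Modules.hom_ext _ _ fun U => by
    ext (s : Γ(X, U))
    exact (swap_hom_app f p U _).trans (map_pow (f.app U).hom s p).symm
  have sq2 : P.map uY ≫ w.hom ≫ F.map T = T ≫ uX := Scheme.Modules.hom_ext _ _ fun U => by
    ext (s : Γ(Y, f ⁻¹ᵁ U))
    exact (congrArg (fun z : Γ(Y, f ⁻¹ᵁ U) => fn (T.app U z)) (swap_hom_app f p U _)).trans (hTp U s)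
  have z : uY ≫ cokernel.π uY = 0 := cokernel.condition _
  have hex : (ShortComplex.mk uY (cokernel.π uY) z).Exact :=
    ShortComplex.exact_of_g_is_cokernel _ (cokernelIsCokernel uY)
  have hex' := exact_push f z (QC.isQCoh_unit Y) (isQCoh_push_frob Y p) (isQCoh_bOne Y p) hex
  haveI : Epi (P.map (cokernel.π uY)) := epi_push f (isQCoh_push_frob Y p) (isQCoh_bOne Y p) _
  have hi : uX ≫ F.map a ≫ w.inv ≫ P.map (cokernel.π uY) = 0 := by
    rw [← reassoc_of% sq1, w.hom_inv_id_assoc, ← P.map_comp, z, P.map_zero, comp_zero]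
  have hr : P.map uY ≫ (w.hom ≫ F.map T ≫ cokernel.π uX) = 0 := by
    rw [reassoc_of% sq2, cokernel.condition, comp_zero]
  refine ⟨cokernel.desc uX _ hi, hex'.desc _ hr, coequalizer.hom_ext ?_⟩
  rw [cokernel.π_desc_assoc, Category.comp_id, Category.assoc, Category.assoc]
  erw [hex'.g_desc _ hr]
  rw [w.inv_hom_id_assoc, ← F.map_comp_assoc, hT, F.map_id, Category.id_comp]

/-- Cohomology of `B` descends along a double cover. -/
theorem subsingleton_hh_bOne [IsFinite f] (hp : p ≠ 2)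
    (h2 : FlatMod.IsFinLocFreeOfRank 2 ((Scheme.Modules.pushforward f).obj (Coh.structureModule Y))) (n : ℕ)
    (h : Subsingleton (Coh.HH Y (bOne Y p) n)) : Subsingleton (Coh.HH X (bOne X p) n) := by
  haveI : (bOne Y p).IsQuasicoherent := isQCoh_bOne Y p
  obtain ⟨i, r, hir⟩ := exists_retract f p hp h2
  obtain ⟨e⟩ := CohQC.hu_push_affine f (bOne Y p) ⊤ n
  have e' : CohSite.HU (Coh.toAb (bOne Y p)) n (⊤ : Y.Opens) ≃+
      CohSite.HU (Coh.toAb ((Coh.push f).obj (bOne Y p))) n (⊤ : X.Opens) := e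
  haveI : Subsingleton (Coh.HH X ((Scheme.Modules.pushforward f).obj (bOne Y p)) n) :=
    ((SiteCoh.huTerminalEquiv (Opens.grothendieckTopology X) isTerminalTop
      (Coh.toAb ((Coh.push f).obj (bOne Y p))) n).trans
      (e'.symm.trans (SiteCoh.huTerminalEquiv (Opens.grothendieckTopology Y) isTerminalTop
        (Coh.toAb (bOne Y p)) n).symm)).toEquiv.subsingleton
  refine subsingleton_of_forall_eq 0 fun x => ?_
  rw [← CohQC.hmap_id n _ x, ← hir, CohQC.hmap_comp,
    Subsingleton.elim (Sheaf.H.map ((SheafOfModules.toSheaf X.ringCatSheaf).map i) n x) 0, map_zero]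

end Groth.Agent.FrobSplitEtale
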